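import Groth.Agent.S9466
import Groth.Agent.S9467
import Groth.Agent.H9Hens.StrictHens
import Groth.Agent.H8Props.NLCx.HenselLift

/-!
# Rings of vanishing cycles after a quasi-finite base change

`RX' ⊗_{RS'} Ω ≅ RX ⊗_{RS} Ω` when `RX' = RX ⊗_{RS} RS'`.
-/

set_option autoImplicit false
set_option linter.style.haveILetI false
set_option linter.unusedSectionVars false

universe u

open TensorProduct IsLocalRing

namespace Groth.Agent.H15Site.LocAcyclic

theorem exists_residue_lift {k ks L : Type u} [Field k] [Field ks] [Field L] [Algebra k ks]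
    [Algebra.IsSeparable k ks] [IsSepClosed L] (g : k →+* L) :
    ∃ τ : ks →+* L, τ.comp (algebraMap k ks) = g := by
  letI := g.toAlgebra
  let τ : ks →ₐ[k] L := IsSepClosed.lift
  exact ⟨τ.toRingHom, RingHom.ext τ.commutes⟩

/-- A separable extension lands in every separably closed subfield containing the base. -/
theorem exists_residue_factor {k ks L K : Type u} [Field k] [Field ks] [Field L] [Field K] [Algebra k ks]
    [Algebra.IsSeparable k ks] [IsSepClosed L] (ψ : ks →+* K) (ι : L →+* K) (g : k →+* L)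
    (h : ψ.comp (algebraMap k ks) = ι.comp g) :
    ∃ τ : ks →+* L, ι.comp τ = ψ ∧ τ.comp (algebraMap k ks) = g := by
  have hmem : ∀ y : ks, ∃ z : L, ι z = ψ y := fun y => by
    let p : Polynomial k := minpoly k y
    have hy : IsIntegral k y := Algebra.IsSeparable.isIntegral k y
    have hp : (p.map g).Separable := Polynomial.Separable.map (Algebra.IsSeparable.isSeparable k y)
    have hs : (p.map g).Splits := IsSepClosed.splits_of_separable _ hp
    have hroot : ψ y ∈ ((p.map g).map ι).roots := by
      rw [Polynomial.mem_roots', Polynomial.map_map, ← h]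
      refine ⟨Polynomial.map_ne_zero (minpoly.ne_zero hy), ?_⟩
      rw [Polynomial.IsRoot.def, Polynomial.eval_map, ← Polynomial.hom_eval₂,
        ← Polynomial.aeval_def, minpoly.aeval, map_zero]
    rw [hs.roots_map ι] at hroot
    obtain ⟨z, -, hz⟩ := Multiset.mem_map.1 hroot
    exact ⟨z, hz⟩
  choose z hz using hmem
  let τ : ks →+* L :=
    { toFun := z
      map_one' := ι.injective (by rw [hz, map_one, map_one])
      map_mul' := fun a b => ι.injective (by rw [hz, map_mul, map_mul, hz, hz])
      map_zero' := ι.injective (by rw [hz, map_zero, map_zero])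
      map_add' := fun a b => ι.injective (by rw [hz, map_add, map_add, hz, hz]) }
  exact ⟨τ, RingHom.ext hz, RingHom.ext fun x => ι.injective ((hz _).trans (RingHom.congr_fun h x))⟩

theorem exists_strictHens_map {R R' S S' : Type u} [CommRing R] [IsLocalRing R] [CommRing R'] [IsLocalRing R']
    [CommRing S] [IsLocalRing S] [Algebra R S] [IsLocalHom (algebraMap R S)] [Hensel.IsStrictHenselization R S]
    [CommRing S'] [IsLocalRing S'] [Algebra R' S'] [IsLocalHom (algebraMap R' S')]
    (hS' : HenselianLocalRing S') (φ : R →+* R') [IsLocalHom φ]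
    (τ : ResidueField S →+* ResidueField S')
    (hτ : τ.comp (ResidueField.map (algebraMap R S)) = ResidueField.map ((algebraMap R' S').comp φ)) :
    ∃ σ : S →+* S', IsLocalHom σ ∧ σ.comp (algebraMap R S) = (algebraMap R' S').comp φ ∧
      ∀ x, residue S' (σ x) = τ (residue S x) := by
  obtain ⟨σ, ⟨h1, h2⟩, -⟩ := Hensel.IsStrictHenselization.universal (R := R) (S := S) S'
    ((algebraMap R' S').comp φ) τ hτ
  refine ⟨σ, ⟨fun x hx => ?_⟩, h1, h2⟩
  by_contra hxu
  refine (residue_ne_zero_iff_isUnit (σ x)).2 hx ?_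
  rw [h2, (residue_eq_zero_iff x).2 ((mem_maximalIdeal x).2 hxu), map_zero]

/-- `RX' ⊗_{RS'} Ω ≅ RX ⊗_{RS} Ω`. -/
theorem nonempty_tensor_ringEquiv (RS RS' RX RX' Ω : Type u) [CommRing RS] [CommRing RS'] [CommRing RX]
    [CommRing RX'] [CommRing Ω] [Algebra RS RS'] [Algebra RS RX] [Algebra RS' RX'] [Algebra RX RX']
    [Algebra RS RX'] [IsScalarTower RS RS' RX'] [IsScalarTower RS RX RX']
    [Algebra RS' Ω] [Algebra RS Ω] [IsScalarTower RS RS' Ω]
    (hb : Function.Bijective (Algebra.TensorProduct.lift (IsScalarTower.toAlgHom RS RS' RX')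
      (IsScalarTower.toAlgHom RS RX RX') (fun _ _ => Commute.all _ _))) :
    Nonempty (RX ⊗[RS] Ω ≃+* RX' ⊗[RS'] Ω) := by
  let Λ := AlgEquiv.ofBijective _ hb
  have hΛl : ∀ s, Λ.symm (algebraMap RS' RX' s) = s ⊗ₜ 1 := fun s =>
    Λ.symm_apply_eq.2 (by simp [Λ])
  let F : RX ⊗[RS] Ω →ₐ[RS] RX' ⊗[RS'] Ω := Algebra.TensorProduct.lift
    (((Algebra.TensorProduct.includeLeft : RX' →ₐ[RS'] RX' ⊗[RS'] Ω).restrictScalars RS).comp
      (IsScalarTower.toAlgHom RS RX RX'))
    ((Algebra.TensorProduct.includeRight : Ω →ₐ[RS'] RX' ⊗[RS'] Ω).restrictScalars RS)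
    (fun _ _ => Commute.all _ _)
  let G₀ : RS' ⊗[RS] RX →ₐ[RS] RX ⊗[RS] Ω := Algebra.TensorProduct.lift
    ((Algebra.TensorProduct.includeRight : Ω →ₐ[RS] RX ⊗[RS] Ω).comp (IsScalarTower.toAlgHom RS RS' Ω))
    Algebra.TensorProduct.includeLeft (fun _ _ => Commute.all _ _)
  let G₁ : RX' →+* RX ⊗[RS] Ω := G₀.toRingHom.comp Λ.symm.toRingEquiv.toRingHom
  letI : Algebra RS' (RX ⊗[RS] Ω) :=
    ((Algebra.TensorProduct.includeRight : Ω →ₐ[RS] RX ⊗[RS] Ω).toRingHom.comp (algebraMap RS' Ω)).toAlgebra
  let G : RX' ⊗[RS'] Ω →ₐ[RS'] RX ⊗[RS] Ω := Algebra.TensorProduct.lift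
    { G₁ with
      commutes' := fun s => (by
        show G₀ (Λ.symm (algebraMap RS' RX' s)) = (1 : RX) ⊗ₜ[RS] algebraMap RS' Ω s
        rw [hΛl]
        simp [G₀]) }
    { (Algebra.TensorProduct.includeRight : Ω →ₐ[RS] RX ⊗[RS] Ω).toRingHom with commutes' := fun s => rfl }
    (fun _ _ => Commute.all _ _)
  have hGl : ∀ x, G (algebraMap RX RX' x ⊗ₜ 1) = x ⊗ₜ 1 := fun x => by
    have : Λ.symm (algebraMap RX RX' x) = 1 ⊗ₜ x := Λ.symm_apply_eq.2 (by simp [Λ])
    show G₁ (algebraMap RX RX' x) * (1 : RX) ⊗ₜ[RS] (1 : Ω) = _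
    rw [← Algebra.TensorProduct.one_def, mul_one]
    show G₀ (Λ.symm (algebraMap RX RX' x)) = _
    rw [this]
    simp [G₀]
  have hGr : ∀ o, G (1 ⊗ₜ o) = 1 ⊗ₜ o := fun o => by
    show G₁ 1 * (1 : RX) ⊗ₜ[RS] o = _
    rw [map_one, one_mul]
  have hGF : G.toRingHom.comp F.toRingHom = RingHom.id _ := by
    refine RingHom.ext fun z => ?_
    induction z using TensorProduct.induction_on with
    | zero => simp
    | tmul x o =>
      show G (algebraMap RX RX' x ⊗ₜ 1 * 1 ⊗ₜ o) = x ⊗ₜ o
      rw [map_mul, hGl, hGr, Algebra.TensorProduct.tmul_mul_tmul, mul_one, one_mul]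
    | add a b ha hb' => rw [map_add, ha, hb']; rfl
  have hFG : F.toRingHom.comp G.toRingHom = RingHom.id _ := by
    refine RingHom.ext fun z => ?_
    induction z using TensorProduct.induction_on with
    | zero => simp
    | tmul y o =>
      obtain ⟨w, rfl⟩ := Λ.surjective y
      show F (G₀ (Λ.symm (Λ w)) * (1 : RX) ⊗ₜ[RS] o) = Λ w ⊗ₜ o
      rw [Λ.symm_apply_apply]
      induction w using TensorProduct.induction_on with
      | zero => simp
      | tmul s x =>
        have h1 : G₀ (s ⊗ₜ x) = x ⊗ₜ algebraMap RS' Ω s := by simp [G₀]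
        have h2 : Λ (s ⊗ₜ x) = algebraMap RS' RX' s * algebraMap RX RX' x := by simp [Λ]
        have hF : ∀ (a : RX) (b : Ω), F (a ⊗ₜ b) = algebraMap RX RX' a ⊗ₜ b := fun a b => by simp [F]
        rw [h1, h2, Algebra.TensorProduct.tmul_mul_tmul, mul_one, hF, ← Algebra.smul_def,
          ← Algebra.smul_def, TensorProduct.smul_tmul]
      | add a b ha hb' => rw [map_add, map_add, add_mul, map_add, TensorProduct.add_tmul, ha, hb']
    | add a b ha hb' => rw [map_add, ha, hb']; rfl
  exact ⟨RingEquiv.ofRingHom F.toRingHom G.toRingHom hFG hGF⟩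

variable {A B C : Type u} [CommRing A] [CommRing B] [CommRing C] [Algebra A B] [Algebra A C]

/-- A strict henselization `RX'` of `B ⊗_A C` over `RS'` of `B` comes from strict henselizations of `A` and `C`. -/
theorem exists_descend (pA : Ideal A) [pA.IsPrime] (pB : Ideal B) [pB.IsPrime] [pB.LiesOver pA]
    (pC : Ideal C) [pC.IsPrime] [pC.LiesOver pA] (pD : Ideal (B ⊗[A] C)) [pD.IsPrime] [pD.LiesOver pB]
    (hDC : pD.comap (Algebra.TensorProduct.includeRight : C →ₐ[A] B ⊗[A] C).toRingHom = pC)
    (h : (∀ s : Finset B, ∃ B₀ : Subalgebra A B, (↑s : Set B) ⊆ ↑B₀ ∧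
      Algebra.FiniteType A ↥B₀ ∧ Algebra.QuasiFinite A ↥B₀) ∨
      (Algebra.FiniteType A B ∧ Algebra.QuasiFiniteAt A pB))
    (RS' RX' : Type u) [CommRing RS'] [IsLocalRing RS'] [CommRing RX'] [IsLocalRing RX']
    [Algebra (Localization.AtPrime pB) RS'] [IsLocalHom (algebraMap (Localization.AtPrime pB) RS')]
    [Hensel.IsStrictHenselization (Localization.AtPrime pB) RS']
    [Algebra (Localization.AtPrime pD) RX'] [IsLocalHom (algebraMap (Localization.AtPrime pD) RX')]
    [Hensel.IsStrictHenselization (Localization.AtPrime pD) RX']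
    [Algebra RS' RX'] [IsLocalHom (algebraMap RS' RX')]
    (hcomm : ∀ b : B, algebraMap RS' RX' (algebraMap (Localization.AtPrime pB) RS' (algebraMap B _ b)) =
      algebraMap (Localization.AtPrime pD) RX' (algebraMap (B ⊗[A] C) _ (b ⊗ₜ 1)))
    (Ω : Type u) [Field Ω] [Algebra RS' Ω] :
    ∃ (RS : Type u) (_ : CommRing RS) (_ : IsLocalRing RS) (_ : Algebra (Localization.AtPrime pA) RS)
      (_ : IsLocalHom (algebraMap (Localization.AtPrime pA) RS))
      (RX : Type u) (_ : CommRing RX) (_ : IsLocalRing RX) (_ : Algebra (Localization.AtPrime pC) RX)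
      (_ : IsLocalHom (algebraMap (Localization.AtPrime pC) RX))
      (_ : Algebra RS RX) (_ : Algebra RS Ω),
      Hensel.IsStrictHenselization (Localization.AtPrime pA) RS ∧
      Hensel.IsStrictHenselization (Localization.AtPrime pC) RX ∧
      IsLocalHom (algebraMap RS RX) ∧
      (∀ a : A, algebraMap RS RX (algebraMap (Localization.AtPrime pA) RS (algebraMap A _ a)) =
        algebraMap (Localization.AtPrime pC) RX (algebraMap C _ (algebraMap A C a))) ∧
      Nonempty (RX ⊗[RS] Ω ≃+* RX' ⊗[RS'] Ω) := by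
  have hpAB : pA = pB.comap (algebraMap A B) := Ideal.LiesOver.over
  have hpAC : pA = pC.comap (algebraMap A C) := Ideal.LiesOver.over
  have hpBD : pB = pD.comap (algebraMap B (B ⊗[A] C)) := Ideal.LiesOver.over
  let locAB := Localization.localRingHom pA pB (algebraMap A B) hpAB
  let locAC := Localization.localRingHom pA pC (algebraMap A C) hpAC
  let locCD := Localization.localRingHom pC pD
    (Algebra.TensorProduct.includeRight : C →ₐ[A] B ⊗[A] C).toRingHom hDC.symm
  obtain ⟨kA, _, _, _, _, _, RS, _, _, _, _, _, -, hRS⟩ :=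
    H9Hens.exists_isStrictHenselization_colim (Localization.AtPrime pA)
  obtain ⟨kC, _, _, _, _, _, RX, _, _, _, _, _, -, hRX⟩ :=
    H9Hens.exists_isStrictHenselization_colim (Localization.AtPrime pC)
  have hS' : HenselianLocalRing RS' :=
    Hensel.IsStrictHenselization.henselian (R := Localization.AtPrime pB)
  have hX' : HenselianLocalRing RX' :=
    Hensel.IsStrictHenselization.henselian (R := Localization.AtPrime pD)
  have hXh : HenselianLocalRing RX := hRX.henselian
  haveI : IsSepClosed (ResidueField RS') :=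
    (Hensel.IsStrictHenselization.isSepClosure (R := Localization.AtPrime pB) (S := RS')).sep_closed
  haveI : IsSepClosed (ResidueField RX') :=
    (Hensel.IsStrictHenselization.isSepClosure (R := Localization.AtPrime pD) (S := RX')).sep_closed
  haveI : IsSepClosed (ResidueField RX) := hRX.isSepClosure.sep_closed
  haveI := hRS.isSepClosure.separable
  haveI := hRX.isSepClosure.separable
  obtain ⟨τS, hτS⟩ := exists_residue_lift (ks := ResidueField RS)
    (ResidueField.map ((algebraMap (Localization.AtPrime pB) RS').comp locAB))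
  obtain ⟨σ, hσl, hσ, hσres⟩ := exists_strictHens_map hS' locAB τS hτS
  obtain ⟨τX, hτX⟩ := exists_residue_lift (ks := ResidueField RX)
    (ResidueField.map ((algebraMap (Localization.AtPrime pD) RX').comp locCD))
  obtain ⟨ρ, hρl, hρ, hρres⟩ := exists_strictHens_map hX' locCD τX hτX
  have hsquare : ∀ z : Localization.AtPrime pA,
      algebraMap RS' RX' (σ (algebraMap _ RS z)) = ρ (algebraMap _ RX (locAC z)) := by
    refine RingHom.congr_fun (IsLocalization.ringHom_ext pA.primeCompl
      (j := ((algebraMap RS' RX').comp σ).comp (algebraMap _ RS))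
      (k := (ρ.comp (algebraMap _ RX)).comp locAC) (RingHom.ext fun a => ?_))
    show algebraMap RS' RX' (σ (algebraMap _ RS (algebraMap A _ a))) =
      ρ (algebraMap _ RX (locAC (algebraMap A _ a)))
    rw [← RingHom.comp_apply σ, hσ, ← RingHom.comp_apply ρ, hρ]
    simp only [RingHom.comp_apply, locAB, locAC, locCD, Localization.localRingHom_to_map]
    rw [hcomm]
    congr 2
    exact ((Algebra.TensorProduct.includeRight : C →ₐ[A] B ⊗[A] C).commutes a).symm ▸
      (Algebra.TensorProduct.includeLeft : B →ₐ[A] B ⊗[A] C).commutes a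
  obtain ⟨τ, hτ, hτg⟩ := exists_residue_factor (k := ResidueField (Localization.AtPrime pA))
    ((ResidueField.map (algebraMap RS' RX')).comp (ResidueField.map σ)) (ResidueField.map ρ)
    ((ResidueField.map (algebraMap (Localization.AtPrime pC) RX)).comp (ResidueField.map locAC))
    (RingHom.ext fun y => by
      obtain ⟨z, rfl⟩ := residue_surjective y
      exact congrArg (residue RX') (hsquare z))
  obtain ⟨κ, hκl, hκ, hκres⟩ := exists_strictHens_map hXh locAC τ (by
    refine RingHom.ext fun y => ?_
    obtain ⟨z, rfl⟩ := residue_surjective y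
    exact RingHom.congr_fun hτg (residue _ z))
  have hsq : ρ.comp κ = (algebraMap RS' RX').comp σ := by
    obtain ⟨m, -, huniq⟩ := hRS.universal RX' (((algebraMap RS' RX').comp σ).comp (algebraMap _ RS))
      ((ResidueField.map (algebraMap RS' RX')).comp (ResidueField.map σ))
      (RingHom.ext fun y => by obtain ⟨z, rfl⟩ := residue_surjective y; rfl)
    refine (huniq _ ⟨RingHom.ext fun z => ?_, fun x => ?_⟩).trans (huniq _ ⟨rfl, fun x => rfl⟩).symm
    · show ρ (κ (algebraMap _ RS z)) = _
      rw [← RingHom.comp_apply κ, hκ]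
      exact (hsquare z).symm
    · show residue RX' (ρ (κ x)) = _
      rw [← hτ]
      show residue RX' (ρ (κ x)) = ResidueField.map ρ (τ (residue RS x))
      rw [← hκres]
      rfl
  letI : Algebra RS RX := κ.toAlgebra
  letI : Algebra RS RS' := σ.toAlgebra
  letI : Algebra RX RX' := ρ.toAlgebra
  letI : Algebra RS RX' := ((algebraMap RS' RX').comp σ).toAlgebra
  haveI : IsScalarTower RS RS' RX' := IsScalarTower.of_algebraMap_eq fun x => rfl
  haveI : IsScalarTower RS RX RX' := IsScalarTower.of_algebraMap_eq fun x => (RingHom.congr_fun hsq x).symm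
  letI : Algebra RS Ω := ((algebraMap RS' Ω).comp σ).toAlgebra
  haveI : IsScalarTower RS RS' Ω := IsScalarTower.of_algebraMap_eq fun x => rfl
  refine ⟨RS, inferInstance, inferInstance, inferInstance, inferInstance, RX, inferInstance, inferInstance,
    inferInstance, inferInstance, inferInstance, inferInstance, hRS, hRX, hκl, fun a => ?_, ?_⟩
  · show κ _ = _
    rw [← RingHom.comp_apply κ, hκ, RingHom.comp_apply]
    simp only [locAC, Localization.localRingHom_to_map]
  haveI : IsLocalHom (algebraMap RS RS') := hσl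
  haveI : IsLocalHom (algebraMap RX RX') := hρl
  haveI : IsLocalHom (algebraMap RS RX) := hκl
  letI : Algebra A RS := ((algebraMap (Localization.AtPrime pA) RS).comp (algebraMap A _)).toAlgebra
  haveI : IsScalarTower A (Localization.AtPrime pA) RS := IsScalarTower.of_algebraMap_eq fun x => rfl
  letI : Algebra B RS' := ((algebraMap (Localization.AtPrime pB) RS').comp (algebraMap B _)).toAlgebra
  haveI : IsScalarTower B (Localization.AtPrime pB) RS' := IsScalarTower.of_algebraMap_eq fun x => rfl
  letI : Algebra A RS' := ((algebraMap B RS').comp (algebraMap A B)).toAlgebra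
  haveI : IsScalarTower A B RS' := IsScalarTower.of_algebraMap_eq fun x => rfl
  haveI : IsScalarTower A RS RS' := IsScalarTower.of_algebraMap_eq fun a => by
    show _ = σ (algebraMap (Localization.AtPrime pA) RS (algebraMap A (Localization.AtPrime pA) a))
    rw [← RingHom.comp_apply σ, hσ, RingHom.comp_apply]
    simp only [locAB, Localization.localRingHom_to_map]
    rfl
  letI : Algebra C RX := ((algebraMap (Localization.AtPrime pC) RX).comp (algebraMap C _)).toAlgebra
  haveI : IsScalarTower C (Localization.AtPrime pC) RX := IsScalarTower.of_algebraMap_eq fun x => rfl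
  letI : Algebra A RX := ((algebraMap C RX).comp (algebraMap A C)).toAlgebra
  haveI : IsScalarTower A C RX := IsScalarTower.of_algebraMap_eq fun x => rfl
  haveI : IsScalarTower A RS RX := IsScalarTower.of_algebraMap_eq fun a => by
    show _ = κ (algebraMap (Localization.AtPrime pA) RS (algebraMap A (Localization.AtPrime pA) a))
    rw [← RingHom.comp_apply κ, hκ, RingHom.comp_apply]
    simp only [locAC, Localization.localRingHom_to_map]
    rfl
  letI : Algebra (B ⊗[A] C) RX' :=
    ((algebraMap (Localization.AtPrime pD) RX').comp (algebraMap _ _)).toAlgebra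
  haveI : IsScalarTower (B ⊗[A] C) (Localization.AtPrime pD) RX' := IsScalarTower.of_algebraMap_eq fun x => rfl
  letI : Algebra B RX' := ((algebraMap RS' RX').comp (algebraMap B RS')).toAlgebra
  haveI : IsScalarTower B RS' RX' := IsScalarTower.of_algebraMap_eq fun x => rfl
  haveI : IsScalarTower B (B ⊗[A] C) RX' := IsScalarTower.of_algebraMap_eq fun b => hcomm b
  have hC : ∀ c : C, algebraMap RX RX' (algebraMap C RX c) = algebraMap (B ⊗[A] C) RX' (1 ⊗ₜ[A] c) := fun c => by
    show ρ (algebraMap (Localization.AtPrime pC) RX (algebraMap C (Localization.AtPrime pC) c)) = _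
    rw [← RingHom.comp_apply ρ, hρ, RingHom.comp_apply]
    simp only [locCD, Localization.localRingHom_to_map]
    rfl
  refine nonempty_tensor_ringEquiv RS RS' RX RX' Ω ?_
  rcases h with hB | ⟨hft, hqf⟩
  · exact S9467.result A B C pA pB pC pD hDC RS RS' RX RX' hC hB
  · exact S9466.result A B C pA pB pC pD hDC RS RS' RX RX' hC

end Groth.Agent.H15Site.LocAcyclic
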