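import Groth.Agent.H15Site.LocAcyclic.Alg
import Groth.Agent.H26Sym.BC
import Groth.Agent.H18Et.TopInvSheaf
import Groth.Prelude.Def_EtRestW

/-!
# Local acyclicity under locally quasi-finite or integral base change
-/

set_option autoImplicit false
set_option linter.style.haveILetI false
set_option linter.unusedSectionVars false
set_option backward.isDefEq.respectTransparency false
set_option backward.isDefEq.respectTransparency.types false

universe u

open CategoryTheory CategoryTheory.Limits AlgebraicGeometry Opposite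
open scoped TensorProduct

namespace Groth.Agent.H15Site.LocAcyclic

/-- Étale cohomology with constant coefficients of isomorphic affine schemes. -/
theorem nonempty_H_const_addEquiv {R R' : Type u} [CommRing R] [CommRing R'] (e : R ≃+* R') (n q : ℕ) :
    Nonempty (EtCoh.H (Spec (CommRingCat.of R)) (EtCoh.const _ (ZMod n)) q ≃+
      EtCoh.H (Spec (CommRingCat.of R')) (EtCoh.const _ (ZMod n)) q) := by
  let i := Spec.map e.toCommRingCatIso.hom
  haveI : IsIso i := inferInstanceAs (IsIso (Spec.map _))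
  haveI := H18Et.TopInvLocal.bc_isEquivalence i
  haveI := H18Et.TopInvSheaf.isEquivalence_pull i
  let e₁ := AddEquiv.ofBijective (EtCore.Hpull i (EtCoh.const _ (ZMod n)) q)
    (H18Et.TopInvSheaf.bijective_Hpull i _ q)
  let c := EtCore.pullConst i (ZMod n)
  exact ⟨e₁.trans (AddMonoidHom.toAddEquiv
    (AddMonoidHom.mk' (fun z => z.comp (Abelian.Ext.mk₀ c.hom) (add_zero q))
      (fun _ _ => Abelian.Ext.add_comp _ _ _ _))
    (AddMonoidHom.mk' (fun z => z.comp (Abelian.Ext.mk₀ c.inv) (add_zero q))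
      (fun _ _ => Abelian.Ext.add_comp _ _ _ _))
    (AddMonoidHom.ext fun z => by simp) (AddMonoidHom.ext fun z => by simp))⟩

variable {X S S' : Scheme.{u}}

/-- The condition on a base change `g` near `y` used in the proof. -/
def IndQF (g : S' ⟶ S) (y : S') : Prop :=
  ∃ (U : S.Opens) (_ : IsAffineOpen U) (W : S'.Opens) (hW : IsAffineOpen W) (e : W ≤ g ⁻¹ᵁ U) (hy : y ∈ W),
    letI := (g.appLE U W e).hom.toAlgebra
    (∀ s : Finset Γ(S', W), ∃ B₀ : Subalgebra Γ(S, U) Γ(S', W), (↑s : Set Γ(S', W)) ⊆ ↑B₀ ∧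
      Algebra.FiniteType Γ(S, U) ↥B₀ ∧ Algebra.QuasiFinite Γ(S, U) ↥B₀) ∨
      (Algebra.FiniteType Γ(S, U) Γ(S', W) ∧
        ∀ p : Ideal Γ(S', W), ∀ [p.IsPrime], Algebra.QuasiFiniteAt Γ(S, U) p)

theorem indQF_of_locallyQuasiFinite (g : S' ⟶ S) [LocallyOfFiniteType g] [LocallyQuasiFinite g] (y : S') :
    IndQF g y := by
  obtain ⟨U, hU, hyU, -⟩ := exists_isAffineOpen_mem_and_subset (X := S) (U := ⊤) (x := g y) (Set.mem_univ _)
  obtain ⟨W, hW, hyW, hWU⟩ := exists_isAffineOpen_mem_and_subset (X := S') (U := g ⁻¹ᵁ U) (x := y) hyU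
  refine ⟨U, hU, W, hW, hWU, hyW, ?_⟩
  letI := (g.appLE U W hWU).hom.toAlgebra
  haveI : Algebra.QuasiFinite Γ(S, U) Γ(S', W) := LocallyQuasiFinite.quasiFinite_appLE hU hW hWU
  exact Or.inr ⟨g.finiteType_appLE hU hW hWU, fun p _ => inferInstance⟩

theorem indQF_of_isIntegralHom (g : S' ⟶ S) [IsIntegralHom g] (y : S') : IndQF g y := by
  obtain ⟨U, hU, hyU, -⟩ := exists_isAffineOpen_mem_and_subset (X := S) (U := ⊤) (x := g y) (Set.mem_univ _)
  refine ⟨U, hU, g ⁻¹ᵁ U, hU.preimage g, le_rfl, hyU, ?_⟩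
  letI := (g.appLE U (g ⁻¹ᵁ U) le_rfl).hom.toAlgebra
  have hint : Algebra.IsIntegral Γ(S, U) Γ(S', g ⁻¹ᵁ U) := ⟨fun x => by
    have h := IsIntegralHom.isIntegral_app g U hU x
    rw [← Scheme.Hom.appLE_eq_app] at h
    exact h⟩
  refine Or.inl fun s => ⟨Algebra.adjoin Γ(S, U) (↑s : Set Γ(S', g ⁻¹ᵁ U)), Algebra.subset_adjoin, ?_⟩
  haveI : Module.Finite Γ(S, U) (Algebra.adjoin Γ(S, U) (↑s : Set Γ(S', g ⁻¹ᵁ U))) :=
    Algebra.finite_adjoin_of_finite_of_isIntegral s.finite_toSet fun x _ => Algebra.IsIntegral.isIntegral x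
  exact ⟨inferInstance, inferInstance⟩

theorem isLocallyAcyclic_snd (f : X ⟶ S) (g : S' ⟶ S) (hg : ∀ y, IndQF g y)
    (hf : EtRest.IsLocallyAcyclic f) : EtRest.IsLocallyAcyclic (pullback.snd f g) := by
  intro x' RS' RX' _ _ _ _ _ _ _ _ _ _ _ _ hcomp Ω _ _ _ n hn
  let π₁ := pullback.fst f g
  let π₂ := pullback.snd f g
  have hpt : f (π₁ x') = g (π₂ x') :=
    (Scheme.Hom.comp_apply π₁ f x').symm.trans
      ((congrArg (fun k : pullback f g ⟶ S => k x') pullback.condition).trans (Scheme.Hom.comp_apply π₂ g x'))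
  obtain ⟨U, hU, W, hW, hWU, hyW, hcond⟩ := hg (π₂ x')
  obtain ⟨V, hV, hxV, hVU⟩ := exists_isAffineOpen_mem_and_subset (X := X) (U := f ⁻¹ᵁ U) (x := π₁ x')
    (by show f (π₁ x') ∈ U; rw [hpt]; exact hWU hyW)
  let O := π₁ ⁻¹ᵁ V ⊓ π₂ ⁻¹ᵁ W
  have hxO : x' ∈ O := ⟨hxV, hyW⟩
  have hP : IsPullback π₁ π₂ f g := IsPullback.of_hasPullback f g
  have hO : IsAffineOpen O := H26Sym.isAffineOpen_inf_preimage hP hU hW hV hWU hVU rfl
  have hpush := (H26Sym.isPushout_appLE hP hU hW hV hWU hVU (rfl : O = _)).flip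
  letI : Algebra Γ(S, U) Γ(S', W) := (g.appLE U W hWU).hom.toAlgebra
  letI : Algebra Γ(S, U) Γ(X, V) := (f.appLE U V hVU).hom.toAlgebra
  let ci := (CommRingCat.isPushout_tensorProduct Γ(S, U) Γ(S', W) Γ(X, V)).isoIsPushout _ _ hpush
  let e : Γ(S', W) ⊗[Γ(S, U)] Γ(X, V) ≃+* Γ(pullback f g, O) := ci.commRingCatIsoToRingEquiv
  have hel : ∀ b, e (b ⊗ₜ 1) = π₂.appLE W O (by simp [O]) b := fun b =>
    congr($((CommRingCat.isPushout_tensorProduct Γ(S, U) Γ(S', W) Γ(X, V)).inl_isoIsPushout_hom _ _ hpush).hom b)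
  have her : ∀ c, e (1 ⊗ₜ c) = π₁.appLE V O (by simp [O]) c := fun c =>
    congr($((CommRingCat.isPushout_tensorProduct Γ(S, U) Γ(S', W) Γ(X, V)).inr_isoIsPushout_hom _ _ hpush).hom c)
  -- germs
  have hsU : f (π₁ x') ∈ U := hVU hxV
  let αA := (S.presheaf.germ U (f (π₁ x')) hsU).hom
  let αB := (S'.presheaf.germ W (π₂ x') hyW).hom
  let αC := (X.presheaf.germ V (π₁ x') hxV).hom
  let αO := ((pullback f g).presheaf.germ O x' hxO).hom
  letI : Algebra Γ(S, U) (S.presheaf.stalk (f (π₁ x'))) := αA.toAlgebra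
  letI : Algebra Γ(S', W) (S'.presheaf.stalk (π₂ x')) := αB.toAlgebra
  letI : Algebra Γ(X, V) (X.presheaf.stalk (π₁ x')) := αC.toAlgebra
  letI : Algebra Γ(pullback f g, O) ((pullback f g).presheaf.stalk x') := αO.toAlgebra
  let pA := (hU.primeIdealOf ⟨_, hsU⟩).asIdeal
  let pB := (hW.primeIdealOf ⟨_, hyW⟩).asIdeal
  let pC := (hV.primeIdealOf ⟨_, hxV⟩).asIdeal
  let pO := (hO.primeIdealOf ⟨_, hxO⟩).asIdeal
  haveI iA : IsLocalization.AtPrime (S.presheaf.stalk (f (π₁ x'))) pA := hU.isLocalization_stalk ⟨_, hsU⟩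
  haveI iB : IsLocalization.AtPrime (S'.presheaf.stalk (π₂ x')) pB := hW.isLocalization_stalk ⟨_, hyW⟩
  haveI iC : IsLocalization.AtPrime (X.presheaf.stalk (π₁ x')) pC := hV.isLocalization_stalk ⟨_, hxV⟩
  haveI iO : IsLocalization.AtPrime ((pullback f g).presheaf.stalk x') pO := hO.isLocalization_stalk ⟨_, hxO⟩
  have hmA : ∀ a, a ∈ pA ↔ ¬ IsUnit (αA a) := fun a => by
    rw [show αA a = algebraMap _ (S.presheaf.stalk (f (π₁ x'))) a from rfl,
      IsLocalization.AtPrime.isUnit_to_map_iff _ pA, Ideal.mem_primeCompl_iff, not_not]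
  have hmB : ∀ b, b ∈ pB ↔ ¬ IsUnit (αB b) := fun b => by
    rw [show αB b = algebraMap _ (S'.presheaf.stalk (π₂ x')) b from rfl,
      IsLocalization.AtPrime.isUnit_to_map_iff _ pB, Ideal.mem_primeCompl_iff, not_not]
  have hmC : ∀ c, c ∈ pC ↔ ¬ IsUnit (αC c) := fun c => by
    rw [show αC c = algebraMap _ (X.presheaf.stalk (π₁ x')) c from rfl,
      IsLocalization.AtPrime.isUnit_to_map_iff _ pC, Ideal.mem_primeCompl_iff, not_not]
  have hmO : ∀ d, d ∈ pO ↔ ¬ IsUnit (αO d) := fun d => by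
    rw [show αO d = algebraMap _ ((pullback f g).presheaf.stalk x') d from rfl,
      IsLocalization.AtPrime.isUnit_to_map_iff _ pO, Ideal.mem_primeCompl_iff, not_not]
  have natB : ∀ b, αO (π₂.appLE W O (by simp [O]) b) = (π₂.stalkMap x').hom (αB b) := fun b => by
    simp only [αO, αB, Scheme.Hom.germ_stalkMap_apply, Scheme.Hom.appLE, CommRingCat.hom_comp,
      RingHom.coe_comp, Function.comp_apply, TopCat.Presheaf.germ_res_apply]
  have natC : ∀ c, αO (π₁.appLE V O (by simp [O]) c) = (π₁.stalkMap x').hom (αC c) := fun c => by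
    simp only [αO, αC, Scheme.Hom.germ_stalkMap_apply, Scheme.Hom.appLE, CommRingCat.hom_comp,
      RingHom.coe_comp, Function.comp_apply, TopCat.Presheaf.germ_res_apply]
  have natA : ∀ a, αC (f.appLE U V hVU a) = (f.stalkMap (π₁ x')).hom (αA a) := fun a => by
    simp only [αC, αA, Scheme.Hom.germ_stalkMap_apply, Scheme.Hom.appLE, CommRingCat.hom_comp,
      RingHom.coe_comp, Function.comp_apply, TopCat.Presheaf.germ_res_apply]
  let pD : Ideal (Γ(S', W) ⊗[Γ(S, U)] Γ(X, V)) := pO.comap e.toRingHom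
  haveI : pD.IsPrime := Ideal.IsPrime.comap _
  haveI : pC.LiesOver pA := ⟨Ideal.ext fun a => by
    rw [Ideal.mem_comap, hmA, hmC]
    show _ ↔ ¬ IsUnit (αC (f.appLE U V hVU a))
    rw [natA, isUnit_map_iff (f.stalkMap (π₁ x')).hom]⟩
  haveI : pD.LiesOver pB := ⟨Ideal.ext fun b => by
    rw [Ideal.mem_comap, Ideal.mem_comap, hmB, hmO]
    show _ ↔ ¬ IsUnit (αO (e (b ⊗ₜ 1)))
    rw [hel, natB, isUnit_map_iff (π₂.stalkMap x').hom]⟩
  have hDC : pD.comap (Algebra.TensorProduct.includeRight :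
      Γ(X, V) →ₐ[Γ(S, U)] Γ(S', W) ⊗[Γ(S, U)] Γ(X, V)).toRingHom = pC := Ideal.ext fun c => by
    rw [Ideal.mem_comap, Ideal.mem_comap, hmC, hmO]
    show ¬ IsUnit (αO (e (1 ⊗ₜ c))) ↔ _
    rw [her, natC, isUnit_map_iff (π₁.stalkMap x').hom]
  haveI : pB.LiesOver pA := ⟨Ideal.ext fun a => by
    have h : αO (e (algebraMap Γ(S, U) Γ(S', W) a ⊗ₜ 1)) = αO (e (1 ⊗ₜ algebraMap Γ(S, U) Γ(X, V) a)) :=
      congrArg (αO ∘ e)
        (((Algebra.TensorProduct.includeLeft : _ →ₐ[Γ(S, U)] Γ(S', W) ⊗[Γ(S, U)] Γ(X, V)).commutes a).trans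
          ((Algebra.TensorProduct.includeRight : _ →ₐ[Γ(S, U)] Γ(S', W) ⊗[Γ(S, U)] Γ(X, V)).commutes a).symm)
    rw [hel, her, natB, natC, show algebraMap Γ(S, U) Γ(X, V) a = f.appLE U V hVU a from rfl, natA] at h
    rw [Ideal.mem_comap, hmA, hmB, ← isUnit_map_iff (π₂.stalkMap x').hom, h,
      isUnit_map_iff (π₁.stalkMap x').hom, isUnit_map_iff (f.stalkMap (π₁ x')).hom]⟩
  -- localizations
  let eA := IsLocalization.algEquiv pA.primeCompl (Localization.AtPrime pA) (S.presheaf.stalk (f (π₁ x')))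
  let eB := IsLocalization.algEquiv pB.primeCompl (Localization.AtPrime pB) (S'.presheaf.stalk (π₂ x'))
  let eC := IsLocalization.algEquiv pC.primeCompl (Localization.AtPrime pC) (X.presheaf.stalk (π₁ x'))
  have hH : pD.primeCompl.map e.toMonoidHom = pO.primeCompl := by
    ext d
    constructor
    · rintro ⟨z, hz, rfl⟩
      exact hz
    · intro hd
      refine ⟨e.symm d, ?_, e.apply_symm_apply d⟩
      show e (e.symm d) ∉ pO
      rw [e.apply_symm_apply]
      exact hd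
  let eD := IsLocalization.ringEquivOfRingEquiv (Localization.AtPrime pD) ((pullback f g).presheaf.stalk x') e hH
  letI : Algebra (Localization.AtPrime pB) RS' :=
    ((algebraMap (S'.presheaf.stalk (π₂ x')) RS').comp eB.toRingEquiv.toRingHom).toAlgebra
  letI : Algebra (Localization.AtPrime pD) RX' :=
    ((algebraMap ((pullback f g).presheaf.stalk x') RX').comp eD.toRingHom).toAlgebra
  haveI : IsLocalHom (algebraMap (Localization.AtPrime pB) RS') :=
    haveI := H8Props.NLCx.isLocalHom_ringEquiv eB.toRingEquiv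
    RingHom.isLocalHom_comp _ _
  haveI : IsLocalHom (algebraMap (Localization.AtPrime pD) RX') :=
    haveI := H8Props.NLCx.isLocalHom_ringEquiv eD
    RingHom.isLocalHom_comp _ _
  haveI := H8Props.NLCx.isStrictHenselization_of_equiv (S := RS') eB.toRingEquiv rfl
  haveI := H8Props.NLCx.isStrictHenselization_of_equiv (S := RX') eD rfl
  have hcomm : ∀ b, algebraMap RS' RX' (algebraMap (Localization.AtPrime pB) RS' (algebraMap _ _ b)) =
      algebraMap (Localization.AtPrime pD) RX'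
        (algebraMap (Γ(S', W) ⊗[Γ(S, U)] Γ(X, V)) _ (b ⊗ₜ 1)) := fun b => by
    show algebraMap RS' RX' (algebraMap _ RS' (eB (algebraMap _ _ b))) =
      algebraMap _ RX' (eD (algebraMap _ _ (b ⊗ₜ 1)))
    rw [eB.commutes, IsLocalization.ringEquivOfRingEquiv_eq, hel]
    exact (RingHom.congr_fun hcomp (αB b)).trans (congrArg _ (natB b).symm)
  obtain ⟨RS, _, _, _, _, RX, _, _, _, _, _, _, hRS, hRX, hloc, hAC, ⟨E⟩⟩ :=
    exists_descend pA pB pC pD hDC (hcond.imp id fun h => ⟨h.1, h.2 pB⟩) RS' RX' hcomm Ω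
  letI : Algebra (S.presheaf.stalk (f.base (pullback.fst f g x'))) RS :=
    ((algebraMap (Localization.AtPrime pA) RS).comp eA.symm.toRingEquiv.toRingHom).toAlgebra
  letI : Algebra (X.presheaf.stalk (pullback.fst f g x')) RX :=
    ((algebraMap (Localization.AtPrime pC) RX).comp eC.symm.toRingEquiv.toRingHom).toAlgebra
  haveI : IsLocalHom (algebraMap (S.presheaf.stalk (f.base (pullback.fst f g x'))) RS) :=
    haveI := H8Props.NLCx.isLocalHom_ringEquiv eA.symm.toRingEquiv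
    RingHom.isLocalHom_comp _ _
  haveI : IsLocalHom (algebraMap (X.presheaf.stalk (pullback.fst f g x')) RX) :=
    haveI := H8Props.NLCx.isLocalHom_ringEquiv eC.symm.toRingEquiv
    RingHom.isLocalHom_comp _ _
  haveI := H8Props.NLCx.isStrictHenselization_of_equiv (S := RS)
    (R' := S.presheaf.stalk (f.base (pullback.fst f g x'))) eA.symm.toRingEquiv rfl
  haveI := H8Props.NLCx.isStrictHenselization_of_equiv (S := RX)
    (R' := X.presheaf.stalk (pullback.fst f g x')) eC.symm.toRingEquiv rfl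
  have hc : (algebraMap RS RX).comp (algebraMap (S.presheaf.stalk (f.base (pullback.fst f g x'))) RS) =
      (algebraMap (X.presheaf.stalk (pullback.fst f g x')) RX).comp (f.stalkMap (pullback.fst f g x')).hom := by
    refine IsLocalization.ringHom_ext pA.primeCompl (RingHom.ext fun a => ?_)
    show algebraMap RS RX (algebraMap (Localization.AtPrime pA) RS (eA.symm (algebraMap _ _ a))) =
      algebraMap (Localization.AtPrime pC) RX (eC.symm ((f.stalkMap (π₁ x')).hom (αA a)))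
    rw [eA.symm.commutes, hAC, ← natA]
    exact congrArg _ (eC.symm.commutes _).symm
  have hn' : (n : X.residueField (pullback.fst f g x')) ≠ 0 := fun h => hn (by
    have := congrArg ((pullback.fst f g).residueFieldMap x').hom h
    rwa [map_natCast, map_zero] at this)
  obtain ⟨h1, ⟨h2⟩⟩ := hf (pullback.fst f g x') RS RX hc Ω n hn'
  obtain ⟨c0⟩ := nonempty_H_const_addEquiv E n 0
  refine ⟨fun q hq => ?_, ⟨c0.symm.trans h2⟩⟩
  obtain ⟨cq⟩ := nonempty_H_const_addEquiv E n q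
  haveI := h1 q hq
  exact cq.symm.injective.subsingleton

end Groth.Agent.H15Site.LocAcyclic
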